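import Cfsg.Agent.H57.BG.Pair
import Cfsg.Agent.H478.SporConway
import Cfsg.Agent.H839.SeventeenMain
import Cfsg.Agent.H729.PairBase
import Cfsg.Agent.H377.SporFi24
import Cfsg.Agent.NotCT.Orders

/-!
# S3561 (abelian B-groups): the groups `Co1`, `Fi23`, `Fi24'`
-/

set_option autoImplicit false

namespace Cfsg.Agent.H107.BG

open Cfsg Subgroup Cfsg.Agent.OrdDiv Cfsg.Agent.H57.BG
open Cfsg.Agent.H257.El (Known noOrd_congr noOrd_of_cent noOrd_of_noComm)

universe u

theorem row_co1 (tab : OrderTable.{u}) (known : Known.{u}) {T : Type u} [Group T] (h : Spor.IsoCo1 T) : Row T := by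
  have hc := NotCT.Orders.co1 h
  have : Finite T := Nat.finite_of_card_ne_zero (by rw [hc]; norm_num)
  obtain ⟨e⟩ := h
  have : Finite Spor.Co1 := Finite.of_equiv T e.toEquiv
  exact row_of_pair tab known (r := 23) (s := 13)
    (l := [(2, 21), (3, 9), (5, 4), (7, 2), (11, 1), (13, 1), (23, 1)]) hc
    (by norm_num) (by norm_num)
    (noOrd_congr e (noOrd_of_noComm (by norm_num) (by norm_num) fun x y hx hy =>
      H478.SporConway.ncomm_co1 (p := 23) (q := 13) (by norm_num) (by norm_num) (by norm_num) (by norm_num)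
        (by norm_num) (by norm_num) (by norm_num) hx hy))
    (by decide +kernel) (by norm_num) (by norm_num) (by norm_num) (by norm_num)

theorem row_fi23 (tab : OrderTable.{u}) (known : Known.{u}) {T : Type u} [Group T] (h : Spor.IsoFi23 T) : Row T := by
  have hc := NotCT.Orders.fi23 h
  have : Finite T := Nat.finite_of_card_ne_zero (by rw [hc]; norm_num)
  obtain ⟨e⟩ := h
  refine row_of_pair tab known (r := 23) (s := 13)
    (l := [(2, 18), (3, 13), (5, 2), (7, 1), (11, 1), (13, 1), (17, 1), (23, 1)]) hc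
    (by norm_num) (by norm_num)
    (noOrd_of_cent (by norm_num) (fun x hx => ?_) (by norm_num) (by norm_num))
    (by decide +kernel) (by norm_num) (by norm_num) (by norm_num) (by norm_num)
  obtain ⟨-, h2⟩ := H839.Fi23.SC.map_all e.symm H839.Fi23.twentythree_main (zpowers x) (by rw [Nat.card_zpowers, hx])
  rw [H729.PairBase.centralizer_zpowers_eq] at h2
  rw [h2, Nat.card_zpowers, hx]

theorem noOrd_fi24 {T : Type*} [Group T] (h : Spor.IsoFi24' T) {s : ℕ} (hs : s.Prime) (h29 : s ≠ 29) (z : T) :
    orderOf z ≠ 29 * s := by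
  obtain ⟨e⟩ := h
  refine noOrd_congr e (noOrd_of_noComm (by norm_num) hs fun x y hx hy hxy => ?_) z
  exact H377.SporRow.fi24_29 (x := (x : Spor.Fi24)) (y := (y : Spor.Fi24)) (by rw [Subgroup.orderOf_coe, hx])
    (by rw [Subgroup.orderOf_coe, hy]; exact hs) (by rw [Subgroup.orderOf_coe, hy]; exact h29)
    (congrArg Subtype.val hxy)

theorem row_fi24 (tab : OrderTable.{u}) (known : Known.{u}) {T : Type u} [Group T] (h : Spor.IsoFi24' T) :
    Row T := by
  have hc := NotCT.Orders.fi24 h
  have : Finite T := Nat.finite_of_card_ne_zero (by rw [hc]; norm_num)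
  exact row_of_pair tab known (r := 29) (s := 11)
    (l := [(2, 21), (3, 16), (5, 2), (7, 3), (11, 1), (13, 1), (17, 1), (23, 1), (29, 1)]) hc
    (by norm_num) (by norm_num) (noOrd_fi24 h (by norm_num) (by norm_num)) (by decide +kernel)
    (by norm_num) (by norm_num) (by norm_num) (by norm_num)

end Cfsg.Agent.H107.BG
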