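import Cfsg.Agent.H57.BG.Pair
import Cfsg.Agent.H257.El.Sp.RuMod
import Cfsg.Agent.H568.RowLy
import Cfsg.Agent.H19.Odd.ONEl
import Cfsg.Agent.NotCT.Orders

/-!
# S3561 (abelian B-groups): the groups `Ru`, `ON`, `Ly`
-/

set_option autoImplicit false

namespace Cfsg.Agent.H107.BG

open Cfsg Subgroup Cfsg.Agent.OrdDiv Cfsg.Agent.H57.BG
open Cfsg.Agent.H257.El (Known noOrd_congr noOrd_of_cent)

universe u

theorem row_ru (tab : OrderTable.{u}) (known : Known.{u}) {T : Type u} [Group T] (h : Spor.IsoRu T) : Row T := by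
  have hc := NotCT.Orders.ru h
  have : Finite T := Nat.finite_of_card_ne_zero (by rw [hc]; norm_num)
  obtain ⟨e⟩ := h
  exact row_of_pair tab known (r := 29) (s := 13)
    (l := [(2, 14), (3, 3), (5, 3), (7, 1), (13, 1), (29, 1)]) hc
    (by norm_num) (by norm_num) (noOrd_congr e H257.El.RuMod.no377) (by decide +kernel)
    (by norm_num) (by norm_num) (by norm_num) (by norm_num)

theorem row_on (tab : OrderTable.{u}) (known : Known.{u}) {T : Type u} [Group T] (h : Spor.IsoON T) : Row T := by
  have hc := NotCT.Orders.on h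
  have : Finite T := Nat.finite_of_card_ne_zero (by rw [hc]; norm_num)
  obtain ⟨e⟩ := h
  have : Finite Spor.ON := Finite.of_equiv T e.toEquiv
  exact row_of_pair tab known (r := 31) (s := 19)
    (l := [(2, 9), (3, 4), (5, 1), (7, 3), (11, 1), (19, 1), (31, 1)]) hc
    (by norm_num) (by norm_num)
    (noOrd_congr e (noOrd_of_cent (by norm_num) (fun x hx => H19.Odd.ONEl.card_31 hx) (by norm_num) (by norm_num)))
    (by decide +kernel) (by norm_num) (by norm_num) (by norm_num) (by norm_num)

theorem row_ly (tab : OrderTable.{u}) (known : Known.{u}) {T : Type u} [Group T] (h : Spor.IsoLy T) : Row T := by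
  have hc := NotCT.Orders.ly h
  have : Finite T := Nat.finite_of_card_ne_zero (by rw [hc]; norm_num)
  exact row_of_pair tab known (r := 67) (s := 37)
    (l := [(2, 8), (3, 7), (5, 6), (7, 1), (11, 1), (31, 1), (37, 1), (67, 1)]) hc
    (by norm_num) (by norm_num) (fun z => by rw [mul_comm]; exact H568.RowLy.no_order h z) (by decide +kernel)
    (by norm_num) (by norm_num) (by norm_num) (by norm_num)

end Cfsg.Agent.H107.BG
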