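import Cfsg.Agent.H57.BG.Pair
import Cfsg.Agent.H149.Sp.Th
import Cfsg.Agent.NotCT.Orders

/-!
# S3561 (abelian B-groups): the Thompson group
-/

set_option autoImplicit false

namespace Cfsg.Agent.H107.BG

open Cfsg Subgroup Cfsg.Agent.OrdDiv Cfsg.Agent.H57.BG
open Cfsg.Agent.H257.El (Known noOrd_congr)

universe u

theorem row_th (tab : OrderTable.{u}) (known : Known.{u}) {T : Type u} [Group T] (h : Spor.IsoTh T) : Row T := by
  have hc := NotCT.Orders.th h
  have : Finite T := Nat.finite_of_card_ne_zero (by rw [hc]; norm_num)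
  obtain ⟨e⟩ := h
  have : Finite Spor.Th := Finite.of_equiv T e.toEquiv
  have : IsSimpleGroup Spor.Th := Cfsg.Agent.S1700.result.1
  exact row_of_pair tab known (r := 31) (s := 19)
    (l := [(2, 15), (3, 10), (5, 3), (7, 2), (13, 1), (19, 1), (31, 1)]) hc
    (by norm_num) (by norm_num)
    (noOrd_congr e fun z hz => H149.Sp.not_adj_th ⟨z, hz⟩)
    (by decide +kernel) (by norm_num) (by norm_num) (by norm_num) (by norm_num)

end Cfsg.Agent.H107.BG
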